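import Groth.Agent.Lib.DR.ExactPush
import Groth.Agent.Lib.DerCat.TStruct
import Mathlib.CategoryTheory.Triangulated.Adjunction

/-!
# Natural transformations between left exact triangulated functors: dévissage
-/

universe w w' v v' u u'

open CategoryTheory CategoryTheory.Limits CategoryTheory.Pretriangulated DerivedCategory

namespace Groth.Agent.Lib.DerCat29.Devissage

variable {A : Type u} [Category.{v} A] [Abelian A] [HasDerivedCategory.{w} A]
  {B : Type u'} [Category.{v'} B] [Abelian B] [HasDerivedCategory.{w'} B]

/-- A functor preserves all the lower bounds of cohomological degrees. -/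
def PreservesGE (F : DerivedCategory A ⥤ DerivedCategory B) : Prop :=
  ∀ (X : DerivedCategory A) (n : ℤ), X.IsGE n → (F.obj X).IsGE n

lemma preservesGE_mapDerivedCategory (G : A ⥤ B) [G.Additive] [PreservesFiniteLimits G]
    [PreservesFiniteColimits G] : PreservesGE G.mapDerivedCategory :=
  fun _ _ h => DR.ExactPush.isGE_map G h

lemma preservesGE_id : PreservesGE (𝟭 (DerivedCategory A)) := fun _ _ h => h

lemma PreservesGE.comp {E : Type*} [Category E] [Abelian E] [HasDerivedCategory E]
    {F : DerivedCategory A ⥤ DerivedCategory B} {G : DerivedCategory B ⥤ DerivedCategory E}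
    (hF : PreservesGE F) (hG : PreservesGE G) : PreservesGE (F ⋙ G) :=
  fun X n h => hG _ n (hF X n h)

/-- A right adjoint of a right exact triangulated functor is left exact. -/
theorem preservesGE_of_adjunction {F : DerivedCategory A ⥤ DerivedCategory B}
    {R : DerivedCategory B ⥤ DerivedCategory A} (adj : F ⊣ R) [F.Additive]
    (hF : ∀ (X : DerivedCategory A) (n : ℤ), X.IsLE n → (F.obj X).IsLE n) : PreservesGE R := by
  intro X n hX
  have hι : (TStructure.t.truncLTι n).app (R.obj X) = 0 := by
    apply (adj.homEquiv _ _).symm.injective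
    have : TStructure.t.IsLE (F.obj ((TStructure.t.truncLT n).obj (R.obj X))) (n - 1) :=
      hF _ _ (inferInstance : TStructure.t.IsLE ((TStructure.t.truncLT n).obj (R.obj X)) (n - 1))
    have : TStructure.t.IsGE X n := hX
    rw [TStructure.t.zero ((adj.homEquiv _ _).symm ((TStructure.t.truncLTι n).app (R.obj X)))
      (n - 1) n (by lia)]
    exact (TStructure.t.zero _ (n - 1) n (by lia)).symm
  rw [isGE_iff]
  intro i hi
  have h := @DerCat.TStruct.isIso_homologyMap_mor₁ _ _ _ _ _
    (TStructure.t.triangleLTGE_distinguished n (R.obj X)) n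
    (inferInstance : TStructure.t.IsGE ((TStructure.t.truncGE n).obj (R.obj X)) n) i hi
  change IsIso ((homologyFunctor A i).map ((TStructure.t.truncLTι n).app (R.obj X))) at h
  rw [hι, Functor.map_zero] at h
  exact IsZero.of_mono_eq_zero (𝟙 _) ((cancel_epi (0 : (homologyFunctor A i).obj
    ((TStructure.t.truncLT n).obj (R.obj X)) ⟶ (homologyFunctor A i).obj (R.obj X))).1 (by simp))

variable {F G : DerivedCategory A ⥤ DerivedCategory B} [F.CommShift ℤ] [G.CommShift ℤ]
  (τ : F ⟶ G) [NatTrans.CommShift τ ℤ]

/-- The map of triangles given by a natural transformation commuting with shifts. -/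
noncomputable def triangleMap (T : Triangle (DerivedCategory A)) :
    F.mapTriangle.obj T ⟶ G.mapTriangle.obj T :=
  Triangle.homMk _ _ (τ.app _) (τ.app _) (τ.app _) (τ.naturality _) (τ.naturality _) (by
    change (F.map T.mor₃ ≫ (F.commShiftIso (1 : ℤ)).hom.app T.obj₁) ≫ (τ.app T.obj₁)⟦(1 : ℤ)⟧' =
      τ.app T.obj₃ ≫ G.map T.mor₃ ≫ (G.commShiftIso (1 : ℤ)).hom.app T.obj₁
    rw [Category.assoc, NatTrans.shift_app_comm, NatTrans.naturality_assoc])

lemma isIso_app_of_iso {X Y : DerivedCategory A} (e : X ≅ Y) (h : IsIso (τ.app X)) :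
    IsIso (τ.app Y) :=
  (NatTrans.isIso_app_iff_of_iso τ e).1 h

variable [F.IsTriangulated] [G.IsTriangulated]

include τ in
/-- **Dévissage**: isomorphism on the cohomology objects gives isomorphism on bounded below
objects. -/
theorem isIso_app (hF : PreservesGE F) (hG : PreservesGE G) (X : DerivedCategory A) (n₀ : ℤ)
    (hX : X.IsGE n₀)
    (h : ∀ q : ℤ, IsIso (τ.app ((singleFunctor A 0).obj ((homologyFunctor A q).obj X)))) :
    IsIso (τ.app X) := by
  -- bounded truncations
  have hb : ∀ k : ℕ, IsIso (τ.app ((TStructure.t.truncLT (n₀ + k)).obj X)) := fun k => by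
    induction k with
    | zero =>
      have hz : IsZero ((TStructure.t.truncLT (n₀ + (0 : ℕ))).obj X) := by
        have : TStructure.t.IsGE X n₀ := hX
        simpa using (TStructure.t.isGE_iff_isZero_truncLT_obj n₀ X).1 this
      exact ⟨0, (F.map_isZero hz).eq_of_src _ _, (G.map_isZero hz).eq_of_src _ _⟩
    | succ k ih =>
      let a : ℤ := n₀ + k
      let Y := (TStructure.t.truncLT (a + 1)).obj X
      have hT := TStructure.t.triangleLTGE_distinguished a Y
      have h1 : IsIso (τ.app ((TStructure.t.truncLT a).obj Y)) :=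
        isIso_app_of_iso τ (@asIso _ _ _ _ _
          (TStructure.t.isIso_truncLT_map_truncLTι_app a (a + 1) (by lia) X)).symm ih
      have h3 : IsIso (τ.app ((TStructure.t.truncGE a).obj Y)) := by
        let Z := (TStructure.t.truncGE a).obj Y
        haveI : Z.IsGE a := (inferInstance : TStructure.t.IsGE Z a)
        haveI : TStructure.t.IsLE Y a := by
          have := (inferInstance : TStructure.t.IsLE Y (a + 1 - 1))
          simpa using this
        haveI : Z.IsLE a := (inferInstance : TStructure.t.IsLE Z a)
        obtain ⟨M, ⟨e⟩⟩ := exists_iso_singleFunctor_obj_of_isGE_of_isLE Z a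
        have eM : M ≅ (homologyFunctor A a).obj X :=
          ((singleFunctorCompHomologyFunctorIso A a).app M).symm ≪≫
            ((homologyFunctor A a).mapIso e).symm ≪≫
            (@asIso _ _ _ _ _ (DerCat.TStruct.isIso_homologyMap_mor₂ (b := a - 1)
              (T := (TStructure.t.triangleLTGE a).obj Y) hT a (by lia))).symm ≪≫
            (@asIso _ _ _ _ _ (@DerCat.TStruct.isIso_homologyMap_mor₁ _ _ _ _ _
              (TStructure.t.triangleLTGE_distinguished (a + 1) X) (a + 1)
              (inferInstance : TStructure.t.IsGE ((TStructure.t.truncGE (a + 1)).obj X) (a + 1))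
              a (by lia)))
        have h0 := isIso_app_of_iso τ ((singleFunctor A 0).mapIso eM.symm) (h a)
        refine isIso_app_of_iso τ (((singleFunctors A).shiftIso (-a) a 0 (by lia)).app M
          ≪≫ e.symm) ?_
        change IsIso (τ.app (((singleFunctor A 0).obj M)⟦-a⟧))
        rw [NatTrans.app_shift τ]
        infer_instance
      have := isIso₂_of_isIso₁₃ (triangleMap τ ((TStructure.t.triangleLTGE a).obj Y))
        (F.map_distinguished _ hT) (G.map_distinguished _ hT) h1 h3
      have hk : n₀ + ((k + 1 : ℕ) : ℤ) = a + 1 := by simp [a]; ring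
      rw [hk]
      exact this
  rw [DerivedCategory.isIso_iff]
  intro i
  obtain ⟨k, hk⟩ : ∃ k : ℕ, i < n₀ + k := ⟨(i - n₀ + 1).toNat, by lia⟩
  have := hb k
  let ι := (TStructure.t.truncLTι (n₀ + k)).app X
  have hT := TStructure.t.triangleLTGE_distinguished (n₀ + k) X
  have hi : ∀ (H : DerivedCategory A ⥤ DerivedCategory B) [H.CommShift ℤ] [H.IsTriangulated],
      PreservesGE H → IsIso ((homologyFunctor B i).map (H.map ι)) := fun H _ _ hH =>
    @DerCat.TStruct.isIso_homologyMap_mor₁ _ _ _ _ _ (H.map_distinguished _ hT) (n₀ + k)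
      (hH _ _ (inferInstance : TStructure.t.IsGE ((TStructure.t.truncGE (n₀ + k)).obj X) (n₀ + k))) i hk
  have := hi F hF
  have := hi G hG
  have e := congrArg (homologyFunctor B i).map (τ.naturality ι)
  rw [Functor.map_comp, Functor.map_comp] at e
  have : IsIso ((homologyFunctor B i).map (F.map ι) ≫ (homologyFunctor B i).map (τ.app X)) := by
    change IsIso ((homologyFunctor B i).map (F.map ι) ≫
      (homologyFunctor B i).map (τ.app ((𝟭 (DerivedCategory A)).obj X)))
    rw [e]
    infer_instance
  exact IsIso.of_isIso_comp_left ((homologyFunctor B i).map (F.map ι)) _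

end Groth.Agent.Lib.DerCat29.Devissage
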