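import Groth.Prelude.Def_WeakSerre
import Groth.Agent.Lib.DerCat29.Devissage

/-!
# Cohomology in a weak Serre subcategory
-/

universe w w' v v' u u'

open CategoryTheory CategoryTheory.Limits CategoryTheory.Pretriangulated DerivedCategory

namespace Groth.Agent.Lib.DerCat29.CohIn

open Devissage

variable {A : Type u} [Category.{v} A] [Abelian A] (P : ObjectProperty A) [WSerre.IsWeakSerre P]

lemma prop_of_isZero {X : A} (h : IsZero X) : P X := by
  obtain ⟨Z, hZ, hPZ⟩ := P.exists_prop_of_containsZero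
  exact P.prop_of_iso (hZ.iso h) hPZ

/-- A weak Serre subcategory contains the middle of a five term exact sequence. -/
lemma prop_of_five {X₁ X₂ X₃ X₄ X₅ : A} {f : X₁ ⟶ X₂} {g : X₂ ⟶ X₃} {h : X₃ ⟶ X₄} {k : X₄ ⟶ X₅}
    {w₁ : f ≫ g = 0} {w₂ : g ≫ h = 0} {w₃ : h ≫ k = 0}
    (e₁ : (ShortComplex.mk f g w₁).Exact) (e₂ : (ShortComplex.mk g h w₂).Exact)
    (e₃ : (ShortComplex.mk h k w₃).Exact) (p₁ : P X₁) (p₂ : P X₂) (p₄ : P X₄) (p₅ : P X₅) : P X₃ := by
  have w : cokernel.desc f g w₁ ≫ kernel.lift k h w₃ = 0 := by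
    rw [← cancel_epi (cokernel.π f), ← cancel_mono (kernel.ι k)]
    simp [w₂]
  let S := ShortComplex.mk _ _ w
  have hm : Mono (cokernel.desc f g w₁) := (ShortComplex.exact_iff_mono_cokernel_desc _).1 e₁
  have he : Epi (kernel.lift k h w₃) := (ShortComplex.exact_iff_epi_kernel_lift _).1 e₃
  let φ : ShortComplex.mk g (kernel.lift k h w₃) (by rw [← cancel_mono (kernel.ι k)]; simp [w₂]) ⟶ S :=
    { τ₁ := cokernel.π f, τ₂ := 𝟙 _, τ₃ := 𝟙 _ }
  let ψ : ShortComplex.mk g (kernel.lift k h w₃) (by rw [← cancel_mono (kernel.ι k)]; simp [w₂]) ⟶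
      ShortComplex.mk g h w₂ :=
    { τ₁ := 𝟙 _, τ₂ := 𝟙 _, τ₃ := kernel.ι k }
  have hS : S.Exact := (ShortComplex.exact_iff_of_epi_of_isIso_of_mono φ).1
    ((ShortComplex.exact_iff_of_epi_of_isIso_of_mono ψ).2 e₂)
  exact P.prop_X₂_of_shortExact (S := S) { exact := hS, mono_f := hm, epi_g := he }
    (P.prop_of_isColimit_cokernelCofork (colimit.isColimit _) p₁ p₂)
    (P.prop_of_isLimit_kernelFork (limit.isLimit _) p₄ p₅)

variable [HasDerivedCategory.{w} A]

/-- `D_A` is closed under extensions. -/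
lemma cohIn_obj₂ (T : Triangle (DerivedCategory A)) (hT : T ∈ distTriang _)
    (h₁ : WSerre.cohIn P T.obj₁) (h₃ : WSerre.cohIn P T.obj₃) : WSerre.cohIn P T.obj₂ := fun i =>
  prop_of_five P (HomologySequence.exact₁ T hT (i - 1) i (by lia))
    (HomologySequence.exact₂ T hT i) (HomologySequence.exact₃ T hT i (i + 1) rfl)
    (h₃ (i - 1)) (h₁ i) (h₃ i) (h₁ (i + 1))

lemma cohIn_of_iso {X Y : DerivedCategory A} (e : X ≅ Y) (h : WSerre.cohIn P X) : WSerre.cohIn P Y :=
  fun i => P.prop_of_iso ((homologyFunctor A i).mapIso e) (h i)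

lemma cohIn_truncGE {X : DerivedCategory A} (h : WSerre.cohIn P X) (a : ℤ) :
    WSerre.cohIn P ((TStructure.t.truncGE a).obj X) := fun i => by
  by_cases hi : a ≤ i
  · exact P.prop_of_iso (@asIso _ _ _ _ _ (@DerCat.TStruct.isIso_homologyMap_mor₂ _ _ _ _ _
      (TStructure.t.triangleLTGE_distinguished a X) (a - 1)
      (inferInstance : TStructure.t.IsLE ((TStructure.t.truncLT a).obj X) (a - 1)) i (by lia))) (h i)
  · exact prop_of_isZero P (@isZero_of_isGE _ _ _ _ _ a i (by lia)
      (inferInstance : TStructure.t.IsGE ((TStructure.t.truncGE a).obj X) a))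

lemma cohIn_truncLT {X : DerivedCategory A} (h : WSerre.cohIn P X) (a : ℤ) :
    WSerre.cohIn P ((TStructure.t.truncLT a).obj X) := fun i => by
  by_cases hi : i < a
  · exact P.prop_of_iso (@asIso _ _ _ _ _ (@DerCat.TStruct.isIso_homologyMap_mor₁ _ _ _ _ _
      (TStructure.t.triangleLTGE_distinguished a X) a
      (inferInstance : TStructure.t.IsGE ((TStructure.t.truncGE a).obj X) a) i (by lia))).symm (h i)
  · exact prop_of_isZero P (@isZero_of_isLE _ _ _ _ _ (a - 1) i (by lia)
      (inferInstance : TStructure.t.IsLE ((TStructure.t.truncLT a).obj X) (a - 1)))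

variable {B : Type u'} [Category.{v'} B] [Abelian B] [HasDerivedCategory.{w'} B]
  (Q : ObjectProperty B) [WSerre.IsWeakSerre Q]

/-- A left exact triangulated functor sending `P` to `D_Q` sends bounded below objects of `D_P` there. -/
theorem cohIn_obj (F : DerivedCategory A ⥤ DerivedCategory B) [F.CommShift ℤ] [F.IsTriangulated]
    (hF : PreservesGE F) (h : ∀ M, P M → WSerre.cohIn Q (F.obj ((singleFunctor A 0).obj M)))
    (X : DerivedCategory A) (n₀ : ℤ) (hX : X.IsGE n₀) (hP : WSerre.cohIn P X) :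
    WSerre.cohIn Q (F.obj X) := by
  have hb : ∀ k : ℕ, WSerre.cohIn Q (F.obj ((TStructure.t.truncLT (n₀ + k)).obj X)) := fun k => by
    induction k with
    | zero =>
      have hz : IsZero ((TStructure.t.truncLT (n₀ + (0 : ℕ))).obj X) := by
        have : TStructure.t.IsGE X n₀ := hX
        simpa using (TStructure.t.isGE_iff_isZero_truncLT_obj n₀ X).1 this
      exact fun i => prop_of_isZero Q ((homologyFunctor B i).map_isZero (F.map_isZero hz))
    | succ k ih =>
      let a : ℤ := n₀ + k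
      let Y := (TStructure.t.truncLT (a + 1)).obj X
      have hY : WSerre.cohIn P Y := cohIn_truncLT P hP (a + 1)
      have hT := TStructure.t.triangleLTGE_distinguished a Y
      have h1 : WSerre.cohIn Q (F.obj ((TStructure.t.truncLT a).obj Y)) :=
        cohIn_of_iso Q (F.mapIso (@asIso _ _ _ _ _
          (TStructure.t.isIso_truncLT_map_truncLTι_app a (a + 1) (by lia) X)).symm) ih
      have h3 : WSerre.cohIn Q (F.obj ((TStructure.t.truncGE a).obj Y)) := by
        let Z := (TStructure.t.truncGE a).obj Y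
        have hZ : WSerre.cohIn P Z := cohIn_truncGE P hY a
        have : Z.IsGE a := (inferInstance : TStructure.t.IsGE Z a)
        have : TStructure.t.IsLE Y a := by
          have := (inferInstance : TStructure.t.IsLE Y (a + 1 - 1))
          simpa using this
        have : Z.IsLE a := (inferInstance : TStructure.t.IsLE Z a)
        obtain ⟨M, ⟨e⟩⟩ := exists_iso_singleFunctor_obj_of_isGE_of_isLE Z a
        have hM : P M := P.prop_of_iso
          ((homologyFunctor A a).mapIso e ≪≫ (singleFunctorCompHomologyFunctorIso A a).app M) (hZ a)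
        refine cohIn_of_iso Q (F.mapIso (((singleFunctors A).shiftIso (-a) a 0 (by lia)).app M ≪≫ e.symm)) ?_
        refine cohIn_of_iso Q ((F.commShiftIso (-a)).app _).symm fun i => ?_
        exact Q.prop_of_iso (((homologyFunctor B 0).shiftIso (-a) i (i - a) (by lia)).app _).symm
          (h M hM (i - a))
      have := cohIn_obj₂ Q _ (F.map_distinguished _ hT) h1 h3
      have hk : n₀ + ((k + 1 : ℕ) : ℤ) = a + 1 := by simp [a]; ring
      rw [hk]
      exact this
  intro i
  obtain ⟨k, hk⟩ : ∃ k : ℕ, i < n₀ + k := ⟨(i - n₀ + 1).toNat, by lia⟩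
  have := @DerCat.TStruct.isIso_homologyMap_mor₁ _ _ _ _ _
    (F.map_distinguished _ (TStructure.t.triangleLTGE_distinguished (n₀ + k) X)) (n₀ + k)
    (hF _ _ (inferInstance : TStructure.t.IsGE ((TStructure.t.truncGE (n₀ + k)).obj X) (n₀ + k))) i hk
  exact Q.prop_of_iso (@asIso _ _ _ _ _ this) (hb k i)

/-- Cohomology commutes with exact functors. -/
theorem cohIn_mapDerivedCategory (G : A ⥤ B) [G.Additive] [PreservesFiniteLimits G]
    [PreservesFiniteColimits G] (h : ∀ M, P M → Q (G.obj M)) (X : DerivedCategory A)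
    (hP : WSerre.cohIn P X) : WSerre.cohIn Q (G.mapDerivedCategory.obj X) := by
  obtain ⟨K, ⟨e⟩⟩ : ∃ K, Nonempty (DerivedCategory.Q.obj K ≅ X) :=
    ⟨_, ⟨DerivedCategory.Q.objObjPreimageIso X⟩⟩
  intro i
  refine Q.prop_of_iso ?_ (h _ (hP i))
  exact G.mapIso ((homologyFunctor A i).mapIso e.symm ≪≫ (homologyFunctorFactors A i).app K) ≪≫
    ((K.sc i).mapHomologyIso G).symm ≪≫
    ((homologyFunctorFactors B i).app ((G.mapHomologicalComplex _).obj K)).symm ≪≫
    (homologyFunctor B i).mapIso ((DR.ExactPush.mapQ G K).symm ≪≫ G.mapDerivedCategory.mapIso e)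

end Groth.Agent.Lib.DerCat29.CohIn
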