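import Groth.Agent.Lib.DerCat29.Devissage

/-!
# Units and counits of derived adjunctions on bounded below objects
-/

universe w w' v v' u u'

open CategoryTheory CategoryTheory.Limits CategoryTheory.Pretriangulated DerivedCategory

namespace Groth.Agent.Lib.DerCat29.AdjIso

open Devissage

variable {A : Type u} [Category.{v} A] [Abelian A] [HasDerivedCategory.{w} A]
  {B : Type u'} [Category.{v'} B] [Abelian B] [HasDerivedCategory.{w'} B]
  (G : A ⥤ B) [G.Additive] [PreservesFiniteLimits G] [PreservesFiniteColimits G]
  {R : DerivedCategory B ⥤ DerivedCategory A} (adj : G.mapDerivedCategory ⊣ R)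

include adj in
lemma preservesGE_right : PreservesGE R :=
  preservesGE_of_adjunction adj fun _ _ h => DR.ExactPush.isLE_map G h

theorem isIso_unit_app (X : DerivedCategory A) (n₀ : ℤ) (hX : X.IsGE n₀)
    (h : ∀ q : ℤ, IsIso (adj.unit.app ((singleFunctor A 0).obj ((homologyFunctor A q).obj X)))) :
    IsIso (adj.unit.app X) := by
  let := adj.rightAdjointCommShift ℤ
  have : adj.CommShift ℤ := adj.commShift_of_leftAdjoint ℤ
  have : R.IsTriangulated := adj.isTriangulated_rightAdjoint
  exact isIso_app adj.unit preservesGE_id
    ((preservesGE_mapDerivedCategory G).comp (preservesGE_right G adj)) X n₀ hX h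

theorem isIso_counit_app (X : DerivedCategory B) (n₀ : ℤ) (hX : X.IsGE n₀)
    (h : ∀ q : ℤ, IsIso (adj.counit.app ((singleFunctor B 0).obj ((homologyFunctor B q).obj X)))) :
    IsIso (adj.counit.app X) := by
  let := adj.rightAdjointCommShift ℤ
  have : adj.CommShift ℤ := adj.commShift_of_leftAdjoint ℤ
  have : R.IsTriangulated := adj.isTriangulated_rightAdjoint
  exact isIso_app adj.counit
    ((preservesGE_right G adj).comp (preservesGE_mapDerivedCategory G)) preservesGE_id X n₀ hX h

end Groth.Agent.Lib.DerCat29.AdjIso
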