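import Mathlib.Algebra.Homology.DerivedCategory.Ext.ExtClass
import Mathlib.Algebra.Homology.DerivedCategory.Ext.ExactSequences
import Mathlib.Algebra.Homology.DerivedCategory.Ext.EnoughInjectives
import Mathlib.CategoryTheory.Abelian.Exact

/-!
# `Ext¹` into a product
-/

universe w v u t

open CategoryTheory Limits

namespace Groth.Agent.Lib.DerCat29.ExtProd

variable {A : Type u} [Category.{v} A] [Abelian A] [HasExt.{w} A] [EnoughInjectives A]

/-- `Ext¹(X, ∏ F) ⟶ ∏ Ext¹(X, F i)` has trivial kernel. -/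
theorem eq_zero_of_comp_π {I : Type t} [HasProductsOfShape I A] (F : I → A) (X : A)
    (z : Abelian.Ext X (∏ᶜ F) 1)
    (hz : ∀ i, z.comp (Abelian.Ext.mk₀ (Limits.Pi.π F i)) (add_zero 1) = 0) : z = 0 := by
  let G := fun i => cokernel (Injective.ι (F i))
  let Jf := fun i => Injective.under (F i)
  let a : (∏ᶜ F) ⟶ ∏ᶜ Jf := Limits.Pi.map fun i => Injective.ι (F i)
  let b : (∏ᶜ Jf) ⟶ ∏ᶜ G := Limits.Pi.map fun i => cokernel.π (Injective.ι (F i))
  have hS : (ShortComplex.mk a (cokernel.π a) (cokernel.condition a)).ShortExact :=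
    { exact := ShortComplex.exact_of_g_is_cokernel _ (cokernelIsCokernel a) }
  have : Injective (∏ᶜ Jf) := inferInstance
  obtain ⟨t, rfl⟩ := Abelian.Ext.covariant_sequence_exact₁ (n₀ := 0) _ hS z
    (Abelian.Ext.eq_zero_of_injective _) rfl
  obtain ⟨t, rfl⟩ := (Abelian.Ext.mk₀_bijective _ _).2 t
  -- the component short exact sequences
  have hSi : ∀ i, (ShortComplex.mk (Injective.ι (F i)) (cokernel.π _)
      (cokernel.condition (Injective.ι (F i)))).ShortExact := fun i =>
    { exact := ShortComplex.exact_of_g_is_cokernel _ (cokernelIsCokernel _) }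
  let c : ∀ i, ShortComplex.mk a (cokernel.π a) (cokernel.condition a) ⟶
      ShortComplex.mk (Injective.ι (F i)) (cokernel.π _) (cokernel.condition (Injective.ι (F i))) := fun i =>
    { τ₁ := Limits.Pi.π F i
      τ₂ := Limits.Pi.π Jf i
      τ₃ := cokernel.map a (Injective.ι (F i)) (Limits.Pi.π F i) (Limits.Pi.π Jf i) (by simp [a, Jf]) }
  have hl : ∀ i, ∃ w : X ⟶ Jf i, w ≫ cokernel.π (Injective.ι (F i)) = t ≫ (c i).τ₃ := by
    intro i
    have h := hz i
    rw [Abelian.Ext.comp_assoc (a₁₂ := 1) (a₂₃ := 1) _ _ _ (zero_add 1) (add_zero 1) (by omega),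
      ShortComplex.ShortExact.extClass_naturality hS (hSi i) (c i),
      ← Abelian.Ext.comp_assoc (a₁₂ := 0) _ _ _ (zero_add 0) (zero_add 1) (by omega),
      Abelian.Ext.mk₀_comp_mk₀] at h
    obtain ⟨w, hw⟩ := Abelian.Ext.covariant_sequence_exact₃ _ (hSi i) _ (zero_add 1) h
    obtain ⟨w, rfl⟩ := (Abelian.Ext.mk₀_bijective _ _).2 w
    exact ⟨w, (Abelian.Ext.mk₀_bijective _ _).1 (by rw [← hw, Abelian.Ext.mk₀_comp_mk₀])⟩
  choose w hw using hl
  have hm : Mono (cokernel.desc a b (by ext i; simp [a, b])) := by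
    refine (ShortComplex.exact_iff_mono_cokernel_desc (ShortComplex.mk a b (by ext i; simp [a, b]))).1 ?_
    refine ShortComplex.exact_of_f_is_kernel _ (KernelFork.IsLimit.ofι' a _ fun {T} g hg => ?_)
    have hg' : ∀ i, (g ≫ Limits.Pi.π Jf i) ≫ cokernel.π (Injective.ι (F i)) = 0 := fun i => by
      simpa [b] using hg =≫ Limits.Pi.π G i
    exact ⟨Limits.Pi.lift fun i => (hSi i).exact.lift _ (hg' i), by
      ext i
      simpa [a] using (hSi i).exact.lift_f _ (hg' i)⟩
  have e : Limits.Pi.lift w ≫ cokernel.π a = t := by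
    rw [← cancel_mono (cokernel.desc a b (Limits.Pi.hom_ext _ _ fun i => by simp [a, b]))]
    ext i
    simp only [Category.assoc, cokernel.π_desc_assoc]
    have : cokernel.desc a b (by ext i; simp [a, b]) ≫ Limits.Pi.π G i = (c i).τ₃ := by
      ext
      simp [c, b, G]
    rw [this, ← hw i]
    simp [b, G]
  rw [← e, ← Abelian.Ext.mk₀_comp_mk₀]
  exact (Abelian.Ext.comp_assoc (a₁₂ := 0) (a₂₃ := 1) _ _ _ (zero_add 0) (zero_add 1) (by omega)).trans
    ((congrArg (fun v => (Abelian.Ext.mk₀ (Limits.Pi.lift w)).comp v (zero_add 1))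
      hS.comp_extClass).trans (Abelian.Ext.comp_zero _ _ _ _ _))

end Groth.Agent.Lib.DerCat29.ExtProd
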